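import Mathlib

/-!
Groups with the order and the element-order counts of a simple group that has a self-centralising
subgroup of prime order.
-/

set_option autoImplicit false
set_option linter.style.haveILetI false
set_option linter.unusedSectionVars false

namespace Cfsg.Lib.NseMathieu

/-- The number of elements of a given order. -/
noncomputable def ordCount (G : Type*) [Group G] (n : ℕ) : ℕ := Nat.card {g : G // orderOf g = n}

/-- The set of these numbers. -/
def nse (G : Type*) [Group G] : Set ℕ := {c : ℕ | 0 < c ∧ ∃ n : ℕ, c = Nat.card {g : G // orderOf g = n}}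

variable {G : Type*} [Group G] [Finite G] {p : ℕ} [hp : Fact p.Prime]

theorem ordCount_modEq {x : G} (hx : orderOf x = p) (n : ℕ) :
    ordCount G n ≡ Nat.card {g : G // orderOf g = n ∧ Commute x g} [MOD p] := by
  classical
  haveI : Fintype {g : G // orderOf g = n} := Fintype.ofFinite _
  let f : Function.End {g : G // orderOf g = n} := fun g =>
    ⟨x * g * x⁻¹, ((MulAut.conj x).orderOf_eq (g : G)).trans g.2⟩
  have hfi : ∀ (i : ℕ) (a : {g : G // orderOf g = n}), ((f ^ i) a : G) = x ^ i * a * (x ^ i)⁻¹ := by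
    intro i
    induction i with
    | zero => intro a; simp; rfl
    | succ i ih =>
      intro a
      rw [pow_succ']
      show x * ((f ^ i) a : G) * x⁻¹ = _
      rw [ih, pow_succ']; group
  have hf : f ^ p ^ 1 = 1 := funext fun a => Subtype.ext (by
    rw [pow_one, hfi, ← hx, pow_orderOf_eq_one]; simp; rfl)
  have hmod := Equiv.Perm.card_fixedPoints_modEq hf
  rw [← Nat.card_eq_fintype_card, ← Nat.card_eq_fintype_card] at hmod
  have h1 : Nat.card (Function.fixedPoints f) = Nat.card {g : G // orderOf g = n ∧ Commute x g} :=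
    Nat.card_congr
      { toFun := fun a => ⟨(a.1 : G), a.1.2, mul_inv_eq_iff_eq_mul.1 (congrArg Subtype.val a.2)⟩
        invFun := fun a => ⟨⟨a.1, a.2.1⟩, Subtype.ext (mul_inv_eq_iff_eq_mul.2 a.2.2)⟩
        left_inv := fun _ => rfl
        right_inv := fun _ => rfl }
  rw [h1] at hmod
  exact hmod

variable (hG : ¬ p * p ∣ Nat.card G)

include hG in
theorem mem_zpowers_of_commute {x y : G} (hx : orderOf x = p) (hy : orderOf y = p) (h : Commute x y) :
    y ∈ Subgroup.zpowers x := by
  have hX : IsPGroup p (Subgroup.zpowers x) := IsPGroup.of_card (n := 1) (by rw [Nat.card_zpowers, hx, pow_one])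
  have hY : IsPGroup p (Subgroup.zpowers y) := IsPGroup.of_card (n := 1) (by rw [Nat.card_zpowers, hy, pow_one])
  have hN : Subgroup.zpowers y ≤ Subgroup.normalizer ((Subgroup.zpowers x : Subgroup G) : Set G) := by
    refine le_trans ?_ (Subgroup.centralizer_le_normalizer _)
    rw [Subgroup.zpowers_le]
    rintro a ⟨k, rfl⟩
    exact (h.zpow_left k).eq
  obtain ⟨k, hk⟩ := IsPGroup.iff_card.1 (hY.to_sup_of_normal_right' hX hN)
  have hle : k ≤ 1 := by
    by_contra h2
    refine hG ((dvd_of_eq (pow_two p).symm).trans (((pow_dvd_pow p (show 2 ≤ k by omega)).trans ?_)))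
    rw [← hk]
    exact Subgroup.card_subgroup_dvd_card _
  have heq : Subgroup.zpowers x = Subgroup.zpowers y ⊔ Subgroup.zpowers x :=
    Subgroup.eq_of_le_of_card_ge le_sup_right (by
      rw [hk, Nat.card_zpowers, hx]
      exact (Nat.pow_le_pow_right hp.1.pos hle).trans (pow_one p).le)
  rw [heq]
  exact Subgroup.mem_sup_left (Subgroup.mem_zpowers y)

theorem card_ne_one {x : G} (hx : orderOf x = p) : Nat.card {g : Subgroup.zpowers x // g ≠ 1} = p - 1 := by
  classical
  haveI := Fintype.ofFinite (Subgroup.zpowers x)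
  rw [Nat.card_eq_fintype_card, Fintype.card_subtype_compl, Fintype.card_subtype_eq, ← Nat.card_eq_fintype_card,
    Nat.card_zpowers, hx]

theorem orderOf_eq_of_mem {x g : G} (hx : orderOf x = p) (hg : g ∈ Subgroup.zpowers x) (h1 : g ≠ 1) :
    orderOf g = p := by
  obtain ⟨k, rfl⟩ := Subgroup.mem_zpowers_iff.1 hg
  rcases (Nat.dvd_prime hp.1).1 (hx ▸ orderOf_dvd_of_mem_zpowers hg) with h | h
  · exact absurd (orderOf_eq_one_iff.1 h) h1
  · exact h

include hG in
theorem count_prime {x : G} (hx : orderOf x = p) : ordCount G p ≡ p - 1 [MOD p] := by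
  refine (ordCount_modEq hx p).trans ?_
  rw [← card_ne_one hx]
  refine (congrArg (· % p) (Nat.card_congr
    { toFun := fun g => ⟨⟨g.1, mem_zpowers_of_commute hG hx g.2.1 g.2.2⟩, fun e => hp.1.ne_one (by
        have := g.2.1
        rw [show (g.1 : G) = 1 from congrArg Subtype.val e, orderOf_one] at this
        exact this.symm)⟩
      invFun := fun g => ⟨(g.1 : G), orderOf_eq_of_mem hx g.1.2 (fun e => g.2 (Subtype.ext e)), ?_⟩
      left_inv := fun _ => rfl
      right_inv := fun _ => rfl }))
  obtain ⟨k, hk⟩ := Subgroup.mem_zpowers_iff.1 g.1.2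
  rw [← hk]
  exact (Commute.refl x).zpow_right k

theorem count_other {x : G} (hx : orderOf x = p) (hC : Subgroup.centralizer ({x} : Set G) = Subgroup.zpowers x)
    {n : ℕ} (h1 : n ≠ 1) (hn : n ≠ p) : ordCount G n ≡ 0 [MOD p] := by
  refine (ordCount_modEq hx n).trans ?_
  haveI : IsEmpty {g : G // orderOf g = n ∧ Commute x g} := ⟨fun g => by
    obtain ⟨g, hgn, hgx⟩ := g
    have hmem : g ∈ Subgroup.zpowers x := hC ▸ Subgroup.mem_centralizer_singleton_iff.2 hgx.symm
    rcases (Nat.dvd_prime hp.1).1 (hx ▸ orderOf_dvd_of_mem_zpowers hmem) with h | h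
    · exact h1 (hgn.symm.trans h)
    · exact hn (hgn.symm.trans h)⟩
  rw [Nat.card_of_isEmpty]

include hG in
theorem ordCount_eq {x : G} (hx : orderOf x = p) :
    ordCount G p * Nat.card (Subgroup.normalizer ((Subgroup.zpowers x : Subgroup G) : Set G)) =
      Nat.card G * (p - 1) := by
  classical
  have hfact : (Nat.card G).factorization p = 1 := by
    have hd : p ∣ Nat.card G := hx ▸ orderOf_dvd_natCard x
    refine le_antisymm ?_ ((hp.1.dvd_iff_one_le_factorization Nat.card_pos.ne').1 hd)
    by_contra h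
    exact hG ((dvd_of_eq (pow_two p).symm).trans
      ((hp.1.pow_dvd_iff_le_factorization Nat.card_pos.ne').2 (by omega)))
  have hcard : ∀ P : Sylow p G, Nat.card (P : Subgroup G) = p := fun P => by
    rw [P.card_eq_multiplicity, hfact, pow_one]
  let mk : ∀ g : G, orderOf g = p → Sylow p G := fun g hg =>
    Sylow.ofCard (Subgroup.zpowers g) (by rw [Nat.card_zpowers, hg, hfact, pow_one])
  have huniq : ∀ (P : Sylow p G) (g : G), g ∈ (P : Subgroup G) → ∀ hg : orderOf g = p, mk g hg = P := fun P g hgP hg =>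
    Sylow.ext (Subgroup.eq_of_le_of_card_ge (Subgroup.zpowers_le.2 hgP)
      (by rw [hcard P]; exact (by rw [← hg, ← Nat.card_zpowers] : p ≤ _)))
  have hne : ∀ P : Sylow p G, Nat.card {g : (P : Subgroup G) // g ≠ 1} = p - 1 := fun P => by
    haveI := Fintype.ofFinite (P : Subgroup G)
    rw [Nat.card_eq_fintype_card, Fintype.card_subtype_compl, Fintype.card_subtype_eq, ← Nat.card_eq_fintype_card,
      hcard P]
  haveI := Fintype.ofFinite (Sylow p G)
  have hord : ∀ (P : Sylow p G) (g : (P : Subgroup G)), g ≠ 1 → orderOf (g : G) = p := fun P g hg => by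
    rw [Subgroup.orderOf_coe]
    rcases (Nat.dvd_prime hp.1).1 (hcard P ▸ orderOf_dvd_natCard g) with h | h
    · exact absurd (orderOf_eq_one_iff.1 h) hg
    · exact h
  have h1 : ordCount G p = Nat.card (Sylow p G) * (p - 1) := by
    rw [ordCount, Nat.card_congr (β := Σ P : Sylow p G, {g : (P : Subgroup G) // g ≠ 1})
      (Equiv.symm (Equiv.ofBijective (fun z => ⟨(z.2.1 : G), hord z.1 z.2.1 z.2.2⟩) ⟨?_, ?_⟩)),
      Nat.card_sigma, Finset.sum_congr rfl (g := fun _ => p - 1) (fun P _ => hne P), Finset.sum_const,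
      smul_eq_mul, Finset.card_univ, Nat.card_eq_fintype_card]
    · rintro ⟨P, g, hg⟩ ⟨Q, k, hk⟩ e
      have e1 : (g : G) = (k : G) := congrArg Subtype.val e
      obtain rfl : P = Q := (huniq P g g.2 (hord P g hg)).symm.trans (huniq Q g (e1 ▸ k.2) (hord P g hg))
      obtain rfl : g = k := Subtype.ext e1
      rfl
    · rintro ⟨g, hg⟩
      refine ⟨⟨mk g hg, ⟨g, Subgroup.mem_zpowers g⟩, fun e => hp.1.ne_one (by
        rw [← hg, show g = 1 from congrArg Subtype.val e, orderOf_one])⟩, rfl⟩
  rw [h1, (mk x hx).card_eq_index_normalizer, mul_right_comm]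
  congr 1
  rw [mul_comm]
  exact Subgroup.card_mul_index _

/-- In a simple group the normaliser of a Sylow subgroup of prime order is determined by a bound. -/
theorem normalizer_of_bound [IsSimpleGroup G] {m e : ℕ} (he : e.Prime) (hm : ¬ p ∣ m) (hm1 : 1 < m)
    (hcard : Nat.card G = p * m) (hmod : ∀ d ≤ e, d ∣ m → (m / d) % p = 1 → d = e) {x : G} (hx : orderOf x = p)
    (hb : Nat.card (Subgroup.normalizer ((Subgroup.zpowers x : Subgroup G) : Set G)) ≤ p * e) :
    Nat.card (Subgroup.normalizer ((Subgroup.zpowers x : Subgroup G) : Set G)) = p * e ∧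
      Subgroup.centralizer ({x} : Set G) = Subgroup.zpowers x := by
  have hfact : (Nat.card G).factorization p = 1 := by
    rw [hcard, Nat.factorization_mul hp.1.ne_zero (by omega), Finsupp.add_apply, hp.1.factorization_self,
      Nat.factorization_eq_zero_of_not_dvd hm]
  let P : Sylow p G := Sylow.ofCard (Subgroup.zpowers x) (by rw [Nat.card_zpowers, hx, hfact, pow_one])
  set N := Subgroup.normalizer ((Subgroup.zpowers x : Subgroup G) : Set G) with hN
  have hPN : Subgroup.zpowers x ≤ N := Subgroup.le_normalizer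
  obtain ⟨d, hd⟩ : p ∣ Nat.card N := by
    rw [← hx, ← Nat.card_zpowers]; exact Subgroup.card_dvd_of_le hPN
  have hidx := Subgroup.card_mul_index N
  rw [hd, hcard, mul_assoc] at hidx
  have hdi : d * N.index = m := Nat.eq_of_mul_eq_mul_left hp.1.pos hidx
  have hdpos : 0 < d := by
    rcases Nat.eq_zero_or_pos d with h | h
    · rw [h, zero_mul] at hdi; omega
    · exact h
  have hde : d = e := by
    refine hmod d (Nat.le_of_mul_le_mul_left (hd ▸ hb) hp.1.pos) ⟨_, hdi.symm⟩ ?_
    rw [← hdi, Nat.mul_div_cancel_left _ hdpos]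
    have h1 : Nat.card (Sylow p G) % p = 1 := Eq.trans (card_sylow_modEq_one p G) (Nat.one_mod_eq_one.2 hp.1.ne_one)
    rwa [P.card_eq_index_normalizer] at h1
  rw [hde] at hd
  refine ⟨hd, ?_⟩
  set C := Subgroup.centralizer ({x} : Set G) with hC
  have hPC : Subgroup.zpowers x ≤ C := Subgroup.zpowers_le.2 (Subgroup.mem_centralizer_singleton_iff.2 rfl)
  have hCeq : Subgroup.centralizer ((Subgroup.zpowers x : Subgroup G) : Set G) = C := by
    refine le_antisymm (Subgroup.centralizer_le (Set.singleton_subset_iff.2 (Subgroup.mem_zpowers x))) ?_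
    intro g hg a ha
    obtain ⟨k, rfl⟩ := ha
    exact (Commute.zpow_left (Subgroup.mem_centralizer_singleton_iff.1 hg).symm k).eq
  have hCN : C ≤ N := hCeq ▸ Subgroup.centralizer_le_normalizer _
  obtain ⟨c, hc⟩ : p ∣ Nat.card C := by
    rw [← hx, ← Nat.card_zpowers]; exact Subgroup.card_dvd_of_le hPC
  have hce : c ∣ e := (Nat.mul_dvd_mul_iff_left hp.1.pos).1 (hc ▸ hd ▸ Subgroup.card_dvd_of_le hCN)
  rcases (Nat.dvd_prime he).1 hce with rfl | rfl
  · exact (Subgroup.eq_of_le_of_card_ge hPC (by rw [hc, Nat.card_zpowers, hx, mul_one])).symm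
  · exfalso
    have hNC : N ≤ Subgroup.centralizer ((Subgroup.zpowers x : Subgroup G) : Set G) :=
      hCeq ▸ (Subgroup.eq_of_le_of_card_ge hCN (by rw [hc, hd])).ge
    have hcompl := MonoidHom.ker_transferSylow_isComplement' P hNC
    have hk := hcompl.card_mul_card
    rw [show Nat.card (P : Subgroup G) = p by rw [P.card_eq_multiplicity, hfact, pow_one], hcard,
      mul_comm p m] at hk
    have hk' := Nat.eq_of_mul_eq_mul_right hp.1.pos hk
    rcases (MonoidHom.normal_ker (MonoidHom.transferSylow P hNC)).eq_bot_or_eq_top with h | h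
    · rw [h, Subgroup.card_bot] at hk'; omega
    · rw [h, Subgroup.card_top, hcard] at hk'
      have := Nat.mul_le_mul_right m hp.1.two_le
      omega

/-- A group with these counts is simple. -/
theorem isSimple_of_nse {M : Type*} [Group M] [Finite M] {m e : ℕ} (he : e.Prime) (hm : ¬ p ∣ m)
    (hem : e < m) (hep : e < p) (hcard : Nat.card G = p * m) (hM : Nat.card M = Nat.card G)
    (hnse : nse G = nse M) (htot : ∀ i ∈ [0, 1, p - 1], Nat.totient (p * e) % p ≠ i)
    (hdiv : ∀ r j : ℕ, r.Prime → 0 < j → r ^ j ∣ m → r ^ j % p ≠ 1) {y : M} (hy : orderOf y = p)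
    (hyN : Nat.card (Subgroup.normalizer ((Subgroup.zpowers y : Subgroup M) : Set M)) = p * e)
    (hyC : Subgroup.centralizer ({y} : Set M) = Subgroup.zpowers y) (hp2 : 2 < p) : IsSimpleGroup G := by
  classical
  have hpp : ¬ p * p ∣ Nat.card G := fun h => hm ((Nat.mul_dvd_mul_iff_left hp.1.pos).1 (hcard ▸ h))
  obtain ⟨x, hx⟩ := exists_prime_orderOf_dvd_card' (G := G) p ⟨m, hcard⟩
  have hval : ∀ n, 0 < ordCount G n → ordCount G n % p = 0 ∨ ordCount G n % p = 1 ∨ ordCount G n % p = p - 1 := by
    intro n hn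
    obtain ⟨-, k, hk⟩ := (hnse ▸ ⟨hn, n, rfl⟩ : ordCount G n ∈ nse M)
    rw [show ordCount G n = ordCount M k from hk]
    by_cases hk1 : k = 1
    · right; left
      subst hk1
      have : ordCount M 1 = 1 := Nat.card_eq_one_iff_unique.2
        ⟨⟨fun a b => Subtype.ext ((orderOf_eq_one_iff.1 a.2).trans (orderOf_eq_one_iff.1 b.2).symm)⟩, ⟨⟨1, orderOf_one⟩⟩⟩
      rw [this, Nat.one_mod_eq_one.2 hp.1.ne_one]
    by_cases hkp : k = p
    · right; right
      subst hkp
      exact Eq.trans (count_prime (hM.symm ▸ hpp) hy) (Nat.mod_eq_of_lt (by omega))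
    · left
      exact Eq.trans (count_other hy hyC hk1 hkp) (Nat.zero_mod p)
  -- the elements of order p
  have hpos : 0 < ordCount G p := Nat.card_pos_iff.2 ⟨⟨⟨x, hx⟩⟩, inferInstance⟩
  have heq : ordCount G p = ordCount M p := by
    obtain ⟨-, k, hk⟩ := (hnse ▸ ⟨hpos, p, rfl⟩ : ordCount G p ∈ nse M)
    change ordCount G p = ordCount M k at hk
    have h1 := count_prime hpp hx
    rw [hk] at h1 ⊢
    rcases eq_or_ne k p with rfl | hkp
    · rfl
    exfalso
    rcases eq_or_ne k 1 with rfl | hk1
    · have : ordCount M 1 = 1 := Nat.card_eq_one_iff_unique.2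
        ⟨⟨fun a b => Subtype.ext ((orderOf_eq_one_iff.1 a.2).trans (orderOf_eq_one_iff.1 b.2).symm)⟩, ⟨⟨1, orderOf_one⟩⟩⟩
      rw [this, Nat.ModEq, Nat.mod_eq_of_lt (show 1 < p by omega), Nat.mod_eq_of_lt (show p - 1 < p by omega)] at h1
      omega
    · have h2 := (count_other hy hyC hk1 hkp).symm.trans h1
      rw [Nat.ModEq, Nat.zero_mod, Nat.mod_eq_of_lt (show p - 1 < p by omega)] at h2
      omega
  have hN : ∀ z : G, orderOf z = p →
      Nat.card (Subgroup.normalizer ((Subgroup.zpowers z : Subgroup G) : Set G)) = p * e := fun z hz => by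
    have h1 := ordCount_eq hpp hz
    have h2 := ordCount_eq (hM.symm ▸ hpp) hy
    rw [hM, ← h1, hyN, ← heq] at h2
    exact (Nat.eq_of_mul_eq_mul_left hpos h2).symm
  have hC : ∀ z : G, orderOf z = p → Subgroup.centralizer ({z} : Set G) = Subgroup.zpowers z := by
    intro z hz
    set C := Subgroup.centralizer ({z} : Set G) with hCdef
    have hPC : Subgroup.zpowers z ≤ C := Subgroup.zpowers_le.2 (Subgroup.mem_centralizer_singleton_iff.2 rfl)
    have hCN : C ≤ Subgroup.normalizer ((Subgroup.zpowers z : Subgroup G) : Set G) := by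
      refine le_trans ?_ (Subgroup.centralizer_le_normalizer _)
      intro g hg a ha
      obtain ⟨k, rfl⟩ := ha
      exact (Commute.zpow_left (Subgroup.mem_centralizer_singleton_iff.1 hg).symm k).eq
    obtain ⟨c, hc⟩ : p ∣ Nat.card C := by
      rw [← hz, ← Nat.card_zpowers]; exact Subgroup.card_dvd_of_le hPC
    have hce : c ∣ e := (Nat.mul_dvd_mul_iff_left hp.1.pos).1 (hc ▸ hN z hz ▸ Subgroup.card_dvd_of_le hCN)
    rcases (Nat.dvd_prime he).1 hce with rfl | rfl
    · exact (Subgroup.eq_of_le_of_card_ge hPC (by rw [hc, Nat.card_zpowers, hz, mul_one])).symm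
    exfalso
    haveI := Fact.mk he
    obtain ⟨w, hw⟩ := exists_prime_orderOf_dvd_card' (G := C) c ⟨p, by rw [hc, mul_comm]⟩
    let z' : C := ⟨z, Subgroup.mem_centralizer_singleton_iff.2 rfl⟩
    have hcomm : Commute z' w :=
      Subtype.ext (Subgroup.mem_centralizer_singleton_iff.1 w.2).symm
    have hzw : orderOf (z' * w) = p * c := by
      rw [hcomm.orderOf_mul_eq_mul_orderOf_of_coprime, hw, Subgroup.orderOf_mk, hz]
      rw [hw, Subgroup.orderOf_mk, hz]
      exact (Nat.coprime_primes hp.1 he).2 (by omega)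
    haveI : IsCyclic C := isCyclic_of_orderOf_eq_card _ (hzw.trans hc.symm)
    haveI := Fintype.ofFinite C
    have hfix : Nat.card {g : G // orderOf g = p * c ∧ Commute z g} = Nat.totient (p * c) := by
      rw [← IsCyclic.card_orderOf_eq_totient (α := C) (d := p * c)
        (by rw [← Nat.card_eq_fintype_card, hc]), ← Fintype.card_subtype, ← Nat.card_eq_fintype_card]
      exact Nat.card_congr
        { toFun := fun g => ⟨⟨g.1, Subgroup.mem_centralizer_singleton_iff.2 g.2.2.symm⟩,
            by rw [Subgroup.orderOf_mk]; exact g.2.1⟩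
          invFun := fun g => ⟨(g.1 : G), by rw [Subgroup.orderOf_coe]; exact g.2,
            (Subgroup.mem_centralizer_singleton_iff.1 g.1.2).symm⟩
          left_inv := fun _ => rfl
          right_inv := fun _ => rfl }
    have hn : 0 < ordCount G (p * c) :=
      Nat.card_pos_iff.2 ⟨⟨⟨((z' * w : C) : G), by rw [Subgroup.orderOf_coe]; exact hzw⟩⟩, inferInstance⟩
    have hmod := ordCount_modEq hz (p * c)
    rw [hfix] at hmod
    rcases hval _ hn with h | h | h <;> rw [hmod] at h
    · exact htot 0 (by simp) h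
    · exact htot 1 (by simp) h
    · exact htot (p - 1) (by simp) h
  -- every nontrivial normal subgroup has order divisible by p
  have hpN : ∀ N : Subgroup G, N.Normal → N ≠ ⊥ → p ∣ Nat.card N := by
    intro N hNn hNb
    by_contra hpn
    obtain ⟨r, hr, hrd⟩ := Nat.exists_prime_and_dvd (show Nat.card N ≠ 1 from fun h => hNb (Subgroup.card_eq_one.1 h))
    haveI := Fact.mk hr
    obtain ⟨R⟩ : Nonempty (Sylow r N) := inferInstance
    set R' := (R : Subgroup N).map N.subtype with hR'
    set L := Subgroup.normalizer (R' : Set G)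
    have htop : L ⊔ N = ⊤ := Sylow.normalizer_sup_eq_top R
    have hpL : p ∣ Nat.card L := by
      have h1 : Nat.card G ∣ Nat.card L * Nat.card N := by
        rw [← Subgroup.card_top (G := G), ← htop]
        have h2 := Subgroup.relIndex_sup_right L N
        rw [← Subgroup.card_mul_index (N.subgroupOf L), ← Subgroup.card_mul_index (N.subgroupOf (L ⊔ N))]
        rw [show (N.subgroupOf (L ⊔ N)).index = N.relIndex (L ⊔ N) from rfl, h2,
          Nat.card_congr (Subgroup.subgroupOfEquivOfLe (le_sup_right : N ≤ L ⊔ N)).toEquiv]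
        exact ⟨Nat.card (N.subgroupOf L), by rw [show (N.subgroupOf L).index = N.relIndex L from rfl]; ring⟩
      exact (hp.1.dvd_mul.1 ((Dvd.intro m hcard.symm).trans h1)).resolve_right hpn
    obtain ⟨z, hz⟩ := exists_prime_orderOf_dvd_card' (G := L) p hpL
    have hz' : orderOf (z : G) = p := by rw [Subgroup.orderOf_coe, hz]
    obtain ⟨j, hj⟩ := IsPGroup.iff_card.1 R.isPGroup'
    have hR'c : Nat.card R' = r ^ j := by
      rw [hR', Subgroup.card_map_of_injective N.subtype_injective, hj]
    have hj0 : 0 < j := by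
      rcases Nat.eq_zero_or_pos j with h | h
      · rw [h, pow_zero] at hj
        exact absurd (hj ▸ R.dvd_card_of_dvd_card hrd) hr.not_dvd_one
      · exact h
    have hjm : r ^ j ∣ m := by
      have hcop : (r ^ j).Coprime p := Nat.Coprime.pow_left j
        ((Nat.coprime_primes hr hp.1).2 (fun e => hpn (e ▸ hrd)))
      exact hcop.dvd_of_dvd_mul_left (hcard ▸ hR'c ▸ Subgroup.card_subgroup_dvd_card R')
    refine hdiv r j hr hj0 hjm ?_
    haveI : Fintype R' := Fintype.ofFinite _
    let f : Function.End R' := fun a => ⟨(z : G) * a * (z : G)⁻¹, (Subgroup.mem_normalizer_iff.1 z.2 a).1 a.2⟩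
    have hfi : ∀ (i : ℕ) (a : R'), ((f ^ i) a : G) = (z : G) ^ i * a * ((z : G) ^ i)⁻¹ := by
      intro i
      induction i with
      | zero => intro a; simp; rfl
      | succ i ih =>
        intro a
        rw [pow_succ']
        show (z : G) * ((f ^ i) a : G) * (z : G)⁻¹ = _
        rw [ih, pow_succ']; group
    have hf : f ^ p ^ 1 = 1 := funext fun a => Subtype.ext (by
      rw [pow_one, hfi, ← hz', pow_orderOf_eq_one]; simp; rfl)
    have hmod := Equiv.Perm.card_fixedPoints_modEq hf
    rw [← Nat.card_eq_fintype_card, ← Nat.card_eq_fintype_card, hR'c] at hmod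
    have h1 : Nat.card (Function.fixedPoints f) = 1 := by
      refine Nat.card_eq_one_iff_unique.2 ⟨⟨fun a b => ?_⟩,
        ⟨⟨1, Subtype.ext (by show (z : G) * 1 * (z : G)⁻¹ = 1; group)⟩⟩⟩
      have key : ∀ a : Function.fixedPoints f, ((a.1 : R') : G) = 1 := fun a => by
        have hmem : ((a.1 : R') : G) ∈ Subgroup.zpowers (z : G) := hC _ hz' ▸
          Subgroup.mem_centralizer_singleton_iff.2 (mul_inv_eq_iff_eq_mul.1 (congrArg Subtype.val a.2)).symm
        rcases (Nat.dvd_prime hp.1).1 (hz' ▸ orderOf_dvd_of_mem_zpowers hmem) with h | h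
        · exact orderOf_eq_one_iff.1 h
        · exfalso
          refine hpn ?_
          rw [← h, ← Subgroup.orderOf_mk _ ((Subgroup.map_subtype_le _) (a.1 : R').2)]
          exact orderOf_dvd_natCard _
      exact Subtype.ext (Subtype.ext ((key a).trans (key b).symm))
    rw [h1] at hmod
    exact Eq.trans hmod (Nat.one_mod_eq_one.2 hp.1.ne_one)
  haveI : Nontrivial G := Finite.one_lt_card_iff_nontrivial.1 (by
    have := Nat.le_mul_of_pos_left m hp.1.pos
    have := he.two_le
    omega)
  refine ⟨fun N hNn => or_iff_not_imp_left.2 fun hNb => by_contra fun hNt => ?_⟩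
  haveI := hNn
  have hd := hpN N hNn hNb
  obtain ⟨z, hz⟩ := exists_prime_orderOf_dvd_card' (G := N) p hd
  have hfactN : (Nat.card N).factorization p = 1 := by
    refine le_antisymm ?_ ((hp.1.dvd_iff_one_le_factorization Nat.card_pos.ne').1 hd)
    by_contra h
    exact hpp (((dvd_of_eq (pow_two p).symm).trans
      ((hp.1.pow_dvd_iff_le_factorization Nat.card_pos.ne').2 (by omega))).trans (Subgroup.card_subgroup_dvd_card N))
  let P : Sylow p N := Sylow.ofCard (Subgroup.zpowers z) (by rw [Nat.card_zpowers, hz, hfactN, pow_one])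
  have hmap : (P : Subgroup N).map N.subtype = Subgroup.zpowers (z : G) := MonoidHom.map_zpowers _ _
  have hzG : orderOf (z : G) = p := by rw [Subgroup.orderOf_coe, hz]
  set L := Subgroup.normalizer ((Subgroup.zpowers (z : G) : Subgroup G) : Set G) with hL
  have htop : L ⊔ N = ⊤ := by
    have := Sylow.normalizer_sup_eq_top P
    rwa [hmap] at this
  have hrel : N.relIndex L = N.index := by
    rw [← Subgroup.relIndex_top_right N, ← htop, Subgroup.relIndex_sup_right]
  have hLN := Subgroup.card_mul_index (N.subgroupOf L)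
  rw [show (N.subgroupOf L).index = N.relIndex L from rfl, hrel, hN _ hzG] at hLN
  have hzLN : (⟨(z : G), Subgroup.le_normalizer (Subgroup.mem_zpowers (z : G))⟩ : L) ∈ N.subgroupOf L := z.2
  obtain ⟨a, ha⟩ : p ∣ Nat.card (N.subgroupOf L) := by
    rw [← hzG, ← Subgroup.orderOf_mk (z : G) (Subgroup.le_normalizer (Subgroup.mem_zpowers (z : G))),
      ← Subgroup.orderOf_mk _ hzLN]
    exact orderOf_dvd_natCard _
  rw [ha, mul_assoc] at hLN
  have hai : a * N.index = e := Nat.eq_of_mul_eq_mul_left hp.1.pos hLN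
  have hidx : N.index = e := by
    rcases (Nat.dvd_prime he).1 (hai ▸ dvd_mul_left _ _) with h | h
    · exact absurd (Subgroup.index_eq_one.1 h) hNt
    · exact h
  rw [hidx] at hai
  have ha1 : a = 1 := Nat.eq_of_mul_eq_mul_right he.pos (hai.trans (one_mul e).symm)
  rw [ha1, mul_one] at ha
  have hNC : Subgroup.normalizer ((P : Subgroup N) : Set N) ≤ Subgroup.centralizer ((P : Subgroup N) : Set N) := by
    intro g hg
    have hgL : (g : G) ∈ L := by
      rw [hL, Subgroup.mem_normalizer_iff]
      intro h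
      constructor
      · rintro ⟨k, rfl⟩
        exact Subtype.coe_injective.eq_iff.2 rfl ▸ hmap ▸
          ⟨g * z ^ k * g⁻¹, (Subgroup.mem_normalizer_iff.1 hg _).1 (Subgroup.zpow_mem_zpowers z k), by simp⟩
      · intro hh
        rw [← hmap] at hh
        obtain ⟨b, hb, hbe⟩ := hh
        have hhN : h ∈ N := by
          have : g⁻¹ * b * g = (g⁻¹ * b * g : N) := rfl
          have e1 : ((g⁻¹ * b * g : N) : G) = h := by
            push_cast
            rw [show ((b : N) : G) = (g : G) * h * (g : G)⁻¹ from hbe]; group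
          exact e1 ▸ (g⁻¹ * b * g : N).2
        rw [← hmap]
        refine ⟨⟨h, hhN⟩, (Subgroup.mem_normalizer_iff.1 hg _).2 ?_, rfl⟩
        have : g * ⟨h, hhN⟩ * g⁻¹ = b := Subtype.ext (by push_cast; exact hbe.symm)
        exact this ▸ hb
    have hgz : (g : G) ∈ Subgroup.zpowers (z : G) := by
      have hsub : Subgroup.zpowers (⟨(z : G), Subgroup.le_normalizer (Subgroup.mem_zpowers (z : G))⟩ : L) =
          N.subgroupOf L := Subgroup.eq_of_le_of_card_ge (Subgroup.zpowers_le.2 hzLN) (by
        rw [ha, Nat.card_zpowers, Subgroup.orderOf_mk, hzG])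
      have hmem : (⟨(g : G), hgL⟩ : L) ∈ N.subgroupOf L := g.2
      rw [← hsub] at hmem
      obtain ⟨k, hk⟩ := hmem
      exact ⟨k, by simpa using congrArg Subtype.val hk⟩
    obtain ⟨i, hi⟩ := hgz
    intro b hb
    obtain ⟨k, rfl⟩ := hb
    refine Subtype.ext ?_
    push_cast
    rw [← show (z : G) ^ i = (g : G) from hi]
    exact ((Commute.refl (z : G)).zpow_zpow k i).eq
  set K := (MonoidHom.transferSylow P hNC).ker with hK
  have hcompl := (MonoidHom.ker_transferSylow_isComplement' P hNC).card_mul_card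
  rw [show Nat.card (P : Subgroup N) = p by rw [P.card_eq_multiplicity, hfactN, pow_one]] at hcompl
  have hKp : ¬ p ∣ Nat.card K := fun h => hpp (by
    have : p * p ∣ Nat.card N := by rw [← hcompl]; exact Nat.mul_dvd_mul h dvd_rfl
    exact this.trans (Subgroup.card_subgroup_dvd_card N))
  have hKmem : ∀ a : N, ¬ p ∣ orderOf a → a ∈ K := by
    intro a ha'
    rw [hK, MonoidHom.mem_ker]
    have h1 : orderOf (MonoidHom.transferSylow P hNC a) ∣ p := by
      have := orderOf_dvd_natCard (MonoidHom.transferSylow P hNC a)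
      rwa [P.card_eq_multiplicity, hfactN, pow_one] at this
    rcases (Nat.dvd_prime hp.1).1 h1 with h | h
    · exact orderOf_eq_one_iff.1 h
    · exact absurd (h ▸ orderOf_map_dvd _ a) ha'
  have hKn : (K.map N.subtype).Normal := by
    refine ⟨?_⟩
    rintro _ ⟨a, ha', rfl⟩ g
    refine ⟨⟨g * (a : G) * g⁻¹, hNn.conj_mem _ a.2 g⟩, hKmem _ fun hd => hKp ?_, rfl⟩
    rw [Subgroup.orderOf_mk, show g * (a : G) * g⁻¹ = MulAut.conj g (a : G) from rfl, MulEquiv.orderOf_eq,
      Subgroup.orderOf_coe, ← Subgroup.orderOf_mk a ha'] at hd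
    exact hd.trans (orderOf_dvd_natCard _)
  have hKne : K.map N.subtype ≠ ⊥ := by
    intro h
    have h1 : Nat.card (K.map N.subtype) = Nat.card K := Subgroup.card_map_of_injective N.subtype_injective
    rw [h, Subgroup.card_bot] at h1
    rw [← h1, one_mul] at hcompl
    have h2 := Subgroup.card_mul_index N
    rw [hidx, hcard, ← hcompl] at h2
    have := Nat.eq_of_mul_eq_mul_left hp.1.pos h2
    omega
  have h3 := hpN _ hKn hKne
  rw [Subgroup.card_map_of_injective N.subtype_injective] at h3
  exact hKp h3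

end Cfsg.Lib.NseMathieu
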