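import Cfsg.Prelude.Def_Sporadic
import Cfsg.Agent.Lib.NseMathieu.Basic
import Cfsg.Agent.Lib.MathieuBlock.Main

/-!
A group with the order and the element-order counts of M22, M23 or M24 is simple.
-/

set_option autoImplicit false
set_option linter.style.haveILetI false

namespace Cfsg.Lib.NseMathieu

open Cfsg Cfsg.Lib.MathieuBlock Cfsg.Lib.Concrete

/-- A certificate gives an element of order `r` with a small normaliser. -/
theorem exists_norm_le {c : NormCert} (hc : c.Good) [Fact c.r.Prime] {H : Subgroup (Equiv.Perm GolayPt)}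
    (hH : H = fixB c.k0) : ∃ x : H, orderOf x = c.r ∧
      Nat.card (Subgroup.normalizer ((Subgroup.zpowers x : Subgroup H) : Set H)) ≤ c.n := by
  obtain ⟨x, hxM, hxr, hxp, hx1⟩ := exists_x hc
  refine ⟨⟨x, hH ▸ hxM⟩, by rw [Subgroup.orderOf_mk]; exact orderOf_eq_prime hxp hx1, ?_⟩
  set y : H := ⟨x, hH ▸ hxM⟩
  have hle := card_norm_le hc H hH.le y hxr (Subtype.ext hxp) (fun h => hx1 (congrArg Subtype.val h))
  refine le_trans (Nat.card_le_card_of_injective (fun g => (⟨g.1, ?_⟩ : {g : H // ∃ k : ℕ, g * y * g⁻¹ = y ^ k}))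
    ?_) hle
  · have h := (Subgroup.mem_normalizer_iff.1 g.2 y).1 (Subgroup.mem_zpowers y)
    obtain ⟨k, hk⟩ := mem_powers_iff_mem_zpowers.2 h
    exact ⟨k, hk.symm⟩
  · intro a b h
    have h' := congrArg Subtype.val h
    exact Subtype.ext h'

theorem hdiv_of_check {p m : ℕ} (hm : m ≠ 0) (hsupp : ∀ r : ℕ, r.Prime → r ∣ m → r ∈ [2, 3, 5, 7, 11])
    (hbig : m < 2 ^ 25) (hchk : ∀ r ∈ [2, 3, 5, 7, 11], ∀ j < 25, j ≠ 0 → r ^ j ∣ m → r ^ j % p ≠ 1) :
    ∀ r j : ℕ, r.Prime → 0 < j → r ^ j ∣ m → r ^ j % p ≠ 1 := by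
  intro r j hr hj hd
  refine hchk r (hsupp r hr ((dvd_pow_self r hj.ne').trans hd)) j ?_ hj.ne' hd
  by_contra h
  have h1 : 2 ^ 25 ≤ r ^ j := (Nat.pow_le_pow_right two_pos (not_lt.1 h)).trans (Nat.pow_le_pow_left hr.two_le j)
  have h2 := Nat.le_of_dvd (Nat.pos_of_ne_zero hm) hd
  omega

theorem prime_mem_list {r a b c : ℕ} (hr : r.Prime) (h : r ∣ 2 ^ a * 3 ^ b * 5 * 7 * 11 ^ c) :
    r ∈ [2, 3, 5, 7, 11] := by
  have key : ∀ {q k : ℕ}, q.Prime → r ∣ q ^ k → r = q := fun hq h =>
    (Nat.prime_dvd_prime_iff_eq hr hq).1 (hr.dvd_of_dvd_pow h)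
  rcases hr.dvd_mul.1 h with h | h
  · rcases hr.dvd_mul.1 h with h | h
    · rcases hr.dvd_mul.1 h with h | h
      · rcases hr.dvd_mul.1 h with h | h
        · simp [key Nat.prime_two h]
        · simp [key Nat.prime_three h]
      · simp [key (k := 1) Nat.prime_five (by rwa [pow_one])]
    · simp [key (k := 1) (show Nat.Prime 7 by norm_num) (by rwa [pow_one])]
  · simp [key (show Nat.Prime 11 by norm_num) h]

theorem isM22_of_nse {G : Type*} [Group G] [Finite G] (hcard : Nat.card G = Nat.card Spor.M22)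
    (hnse : nse G = nse Spor.M22) : IsM22 G := by
  haveI : Fact (Nat.Prime 11) := ⟨by norm_num⟩
  haveI : Fact m22Norm11.r.Prime := ⟨show Nat.Prime 11 by norm_num⟩
  haveI := isSimple_sporM22
  obtain ⟨y, hy, hb⟩ := exists_norm_le m22Good11 sporM22_eq_fixB
  have hy' : orderOf y = 11 := hy
  obtain ⟨hN, hC⟩ := normalizer_of_bound (p := 11) (m := 40320) (e := 5) Nat.prime_five (by norm_num)
    (by norm_num) (by rw [card_sporM22]) (by decide +kernel) hy' (hb.trans (by decide))
  refine ⟨isSimple_of_nse (p := 11) (m := 40320) (e := 5) Nat.prime_five (by norm_num) (by norm_num)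
    (by norm_num) (by rw [hcard, card_sporM22]) hcard.symm hnse (by decide +kernel)
    (hdiv_of_check (by norm_num) (fun r hr h => prime_mem_list (a := 7) (b := 2) (c := 0) hr (by simpa using h))
      (by norm_num) (by decide +kernel)) hy' hN hC (by norm_num), hcard.trans card_sporM22⟩

theorem exists_m24_23 [Fact (Nat.Prime 23)] : ∃ y : M24, orderOf y = 23 ∧
    Nat.card (Subgroup.normalizer ((Subgroup.zpowers y : Subgroup M24) : Set M24)) = 23 * 11 ∧
      Subgroup.centralizer ({y} : Set M24) = Subgroup.zpowers y := by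
  haveI : Fact m24Norm23.r.Prime := ⟨show Nat.Prime 23 by norm_num⟩
  haveI := isSimple_M24
  obtain ⟨y, hy, hb⟩ := exists_norm_le m24Good23 m24_eq_fixB
  have hy' : orderOf y = 23 := hy
  exact ⟨y, hy', normalizer_of_bound (p := 23) (m := 10644480) (e := 11) (by norm_num) (by norm_num)
    (by norm_num) (by rw [card_M24]) (by decide +kernel) hy' (hb.trans (by decide))⟩

theorem isM24_of_nse {G : Type*} [Group G] [Finite G] (hcard : Nat.card G = Nat.card M24)
    (hnse : nse G = nse M24) : IsM24 G := by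
  haveI : Fact (Nat.Prime 23) := ⟨by norm_num⟩
  obtain ⟨y, hy, hN, hC⟩ := exists_m24_23
  exact ⟨isSimple_of_nse (p := 23) (m := 10644480) (e := 11) (by norm_num) (by norm_num) (by norm_num)
    (by norm_num) (by rw [hcard, card_M24]) hcard.symm hnse (by decide +kernel)
    (hdiv_of_check (by norm_num) (fun r hr h => prime_mem_list (a := 10) (b := 3) (c := 1) hr (by simpa using h))
      (by norm_num) (by decide +kernel)) hy hN hC (by norm_num), hcard.trans card_M24⟩

theorem isM23_of_nse {G : Type*} [Group G] [Finite G] (hcard : Nat.card G = Nat.card Spor.M23)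
    (hnse : nse G = nse Spor.M23) : IsM23 G := by
  haveI : Fact (Nat.Prime 23) := ⟨by norm_num⟩
  haveI := isSimple_sporM23
  obtain ⟨y, hy⟩ := exists_prime_orderOf_dvd_card' (G := Spor.M23) 23 (by rw [card_sporM23]; norm_num)
  let y' : M24 := ⟨(y : Equiv.Perm GolayPt), sporM23_le y.2⟩
  have hy' : orderOf y' = 23 := by
    rw [Subgroup.orderOf_mk, Subgroup.orderOf_coe, hy]
  have hb : Nat.card (Subgroup.normalizer ((Subgroup.zpowers y : Subgroup Spor.M23) : Set Spor.M23)) ≤ 23 * 11 := by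
    obtain ⟨z, hz, hzN, -⟩ := exists_m24_23
    have hnd : ¬ 23 * 23 ∣ Nat.card M24 := by rw [card_M24]; norm_num
    have h1 := ordCount_eq hnd hz
    have h2 := ordCount_eq hnd hy'
    rw [← h2, hzN] at h1
    have hpos : 0 < ordCount M24 23 := Nat.card_pos_iff.2 ⟨⟨⟨y', hy'⟩⟩, inferInstance⟩
    rw [Nat.eq_of_mul_eq_mul_left hpos h1]
    set f := Subgroup.inclusion sporM23_le
    have hf : Function.Injective f := Subgroup.inclusion_injective sporM23_le
    refine Nat.card_le_card_of_injective (fun g => (⟨f g.1, ?_⟩ : Subgroup.normalizer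
      ((Subgroup.zpowers y' : Subgroup M24) : Set M24))) fun a b h => Subtype.ext (hf (congrArg Subtype.val h))
    have hmap : (Subgroup.zpowers y).map f = Subgroup.zpowers y' := MonoidHom.map_zpowers _ _
    rw [← hmap]
    exact Subgroup.le_normalizer_map f ⟨g.1, g.2, rfl⟩
  obtain ⟨hN, hC⟩ := normalizer_of_bound (p := 23) (m := 443520) (e := 11) (by norm_num) (by norm_num)
    (by norm_num) (by rw [card_sporM23]) (by decide +kernel) hy hb
  exact ⟨isSimple_of_nse (p := 23) (m := 443520) (e := 11) (by norm_num) (by norm_num) (by norm_num)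
    (by norm_num) (by rw [hcard, card_sporM23]) hcard.symm hnse (by decide +kernel)
    (hdiv_of_check (by norm_num) (fun r hr h => prime_mem_list (a := 7) (b := 2) (c := 1) hr (by simpa using h))
      (by norm_num) (by decide +kernel)) hy hN hC (by norm_num), hcard.trans card_sporM23⟩

end Cfsg.Lib.NseMathieu
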